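import Groth.Prelude.Def_Red
import Groth.Agent.Lib.Desc.Over
import Groth.Agent.Lib.SubGrp13.Basic
import Groth.Agent.Lib.LimH13.NhdLimit
import Groth.Agent.Lib.LimH13.IdealSys
import Groth.Agent.Lib.LimH13.KerFG
import Groth.Agent.Lib.Descend.Stage
import Groth.Agent.S9220
import Groth.Agent.S18878

/-!
Closed subgroup schemes of a generic fibre spread out; composition of base changes of group schemes.
-/

universe u

open CategoryTheory CategoryTheory.Limits AlgebraicGeometry MonoidalCategory CartesianMonoidalCategory MonObj Opposite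

set_option backward.isDefEq.respectTransparency false
set_option backward.isDefEq.respectTransparency.types false

noncomputable section

namespace Groth.Agent.SpreadSub19

variable {S T T' : Scheme.{u}} (a : T ⟶ S) (b : T' ⟶ T) {c : T' ⟶ S} (h : b ≫ a = c)

/-- Base change along a composite, in two steps. -/
def bcComp (G : Over S) : Red.bc b (Red.bc a G) ≅ Red.bc c G :=
  Over.isoMk (pullbackLeftPullbackSndIso G.hom a b ≪≫ pullback.congrHom rfl h) (by
    show (pullbackLeftPullbackSndIso G.hom a b ≪≫ pullback.congrHom rfl h).hom ≫ pullback.snd _ _ = pullback.snd _ _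
    simp)

theorem bcComp_fst (G : Over S) :
    (bcComp a b h G).hom.left ≫ pullback.fst G.hom c =
      pullback.fst _ b ≫ pullback.fst G.hom a := by
  show (pullbackLeftPullbackSndIso G.hom a b ≪≫ pullback.congrHom rfl h).hom ≫ pullback.fst _ _ = _
  simp

theorem bcComp_natural {X Y : Over S} (f : X ⟶ Y) :
    (Over.pullback b).map ((Over.pullback a).map f) ≫ (bcComp a b h Y).hom =
      (bcComp a b h X).hom ≫ (Over.pullback c).map f := by
  ext : 1
  simp only [Over.comp_left]
  refine pullback.hom_ext ?_ ?_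
  · rw [Category.assoc, bcComp_fst]
    show pullback.lift _ _ _ ≫ _ = (_ ≫ pullback.lift _ _ _) ≫ pullback.fst _ _
    rw [pullback.lift_fst_assoc, Category.assoc, Category.assoc, pullback.lift_fst, ← Category.assoc _ (pullback.fst X.hom c), bcComp_fst,
      Category.assoc]
    show pullback.fst _ b ≫ pullback.lift _ _ _ ≫ pullback.fst _ _ = _
    rw [pullback.lift_fst]
  · exact (Over.w ((Over.pullback b).map ((Over.pullback a).map f) ≫ (bcComp a b h Y).hom)).trans
      (Over.w ((bcComp a b h X).hom ≫ (Over.pullback c).map f)).symm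

theorem bcComp_isMonHom (G : Over S) [GrpObj G] : IsMonHom (bcComp a b h G).hom := by
  have key : Functor.LaxMonoidal.μ (Over.pullback b) (Red.bc a G) (Red.bc a G) ≫
      (Over.pullback b).map (Functor.LaxMonoidal.μ (Over.pullback a) G G) ≫ (bcComp a b h (G ⊗ G)).hom =
      ((bcComp a b h G).hom ⊗ₘ (bcComp a b h G).hom) ≫ Functor.LaxMonoidal.μ (Over.pullback c) G G := by
    rw [← cancel_mono (Functor.OplaxMonoidal.δ (Over.pullback c) G G)]
    simp only [Category.assoc, Functor.Monoidal.μ_δ, Category.comp_id]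
    refine CartesianMonoidalCategory.hom_ext _ _ ?_ ?_
    · simp only [Category.assoc, Functor.OplaxMonoidal.δ_fst, tensorHom_fst, ← bcComp_natural]
      rw [← Category.assoc ((Over.pullback b).map _), ← Functor.map_comp, Functor.Monoidal.μ_fst,
        Functor.Monoidal.μ_fst_assoc]
    · simp only [Category.assoc, Functor.OplaxMonoidal.δ_snd, tensorHom_snd, ← bcComp_natural]
      rw [← Category.assoc ((Over.pullback b).map _), ← Functor.map_comp, Functor.Monoidal.μ_snd,
        Functor.Monoidal.μ_snd_assoc]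
  refine Desc.isMonHom_of_points _ (fun U => ?_) (fun U x y => ?_)
  · have e1 : (1 : U ⟶ Red.bc b (Red.bc a G)) = toUnit U ≫ Functor.LaxMonoidal.ε (Over.pullback b) ≫
        (Over.pullback b).map (Functor.LaxMonoidal.ε (Over.pullback a) ≫ (Over.pullback a).map η[G]) := rfl
    have e2 : (1 : U ⟶ Red.bc c G) = toUnit U ≫ Functor.LaxMonoidal.ε (Over.pullback c) ≫ (Over.pullback c).map η[G] := rfl
    rw [e1, e2, Functor.map_comp]
    simp only [Category.assoc, bcComp_natural]
    congr 1
    simp only [← Category.assoc]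
    congr 1
    rw [← cancel_mono (Functor.OplaxMonoidal.η (Over.pullback c))]
    exact toUnit_unique _ _
  · have e1 : x * y = lift x y ≫ Functor.LaxMonoidal.μ (Over.pullback b) (Red.bc a G) (Red.bc a G) ≫
        (Over.pullback b).map (Functor.LaxMonoidal.μ (Over.pullback a) G G ≫ (Over.pullback a).map μ[G]) := rfl
    have e2 : (x ≫ (bcComp a b h G).hom) * (y ≫ (bcComp a b h G).hom) =
        lift (x ≫ (bcComp a b h G).hom) (y ≫ (bcComp a b h G).hom) ≫ Functor.LaxMonoidal.μ (Over.pullback c) G G ≫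
          (Over.pullback c).map μ[G] := rfl
    rw [e1, e2, Functor.map_comp, ← lift_map]
    simp only [Category.assoc, bcComp_natural]
    rw [← reassoc_of% key]

variable {X : Scheme.{u}}

open LimH13

theorem exists_spread [IsIntegral X] (G : Over X) [GrpObj G]
    [IsAffineHom G.hom] [LocallyOfFinitePresentation G.hom]
    (Hη : Over (Spec X.functionField)) [GrpObj Hη]
    (i : Hη ⟶ Red.bc (X.fromSpecStalk (genericPoint X)) G) [IsMonHom i] [IsClosedImmersion i.left] :
    ∃ (U : X.Opens) (ηU : Spec X.functionField ⟶ (U : Scheme.{u})) (HU : Over (U : Scheme.{u}))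
      (_ : GrpObj HU) (j : HU ⟶ Red.bc U.ι G) (φ : Hη.left ⟶ HU.left),
      ηU ≫ U.ι = X.fromSpecStalk (genericPoint X) ∧ IsMonHom j ∧ IsClosedImmersion j.left ∧
      IsPullback φ Hη.hom HU.hom ηU ∧
      φ ≫ j.left ≫ pullback.fst G.hom U.ι = i.left ≫ pullback.fst G.hom (X.fromSpecStalk (genericPoint X)) := by
  classical
  obtain ⟨V, hV, hηV, -⟩ := exists_isAffineOpen_mem_and_subset (X := X) (x := genericPoint X) (U := ⊤) trivial
  let s : X := genericPoint X
  let Va : X.affineOpens := ⟨V, hV⟩
  haveI := Nhd.isDirected s Va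
  haveI : Nonempty (Nhd.Idx s Va) := ⟨⟨1, by rw [Scheme.basicOpen_of_isUnit _ isUnit_one]; exact hηV⟩⟩
  haveI : IsFiltered (Nhd.Idx s Va) := isFiltered_of_directed_le_nonempty _
  let D := Nhd.diag s Va
  let cn := Nhd.cone s Va
  have hcn : IsLimit cn := Nhd.isLimit s Va hηV
  haveI hAffD : ∀ j, IsAffine (D.obj j) := fun j => hV.basicOpen _
  haveI : ∀ (j k : (Nhd.Idx s Va)ᵒᵖ) (f : j ⟶ k), IsAffineHom (D.map f) := fun j k f => Nhd.isAffineHom_map s Va f
  let t : D ⟶ (Functor.const _).obj X :=
    { app := fun j => (X.basicOpen j.unop.1).ι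
      naturality := fun j k f => by simp [D, Nhd.diag] }
  let η₀ := X.fromSpecStalk (genericPoint X)
  have hq : ∀ j, cn.π.app j ≫ t.app j = η₀ := fun j => Scheme.Opens.fromSpecStalkOfMem_ι _ _ j.unop.2
  have hP : IsPullback (pullback.fst G.hom η₀) (pullback.snd G.hom η₀) G.hom η₀ := IsPullback.of_hasPullback _ _
  let D₂ := Descend.pbDiagram D t G.hom
  let c₂ : Cone D₂ := Descend.pbCone D t G.hom cn hq hP
  have hc₂ : IsLimit c₂ := Descend.pbIsLimit D t G.hom cn hq hP hcn
  haveI hAffD₂ : ∀ j, IsAffine (D₂.obj j) := fun j =>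
    haveI : IsAffine (D.obj j) := hAffD j
    haveI : IsAffineHom (pullback.snd G.hom (t.app j)) := MorphismProperty.pullback_snd _ _ inferInstance
    isAffine_of_isAffineHom (pullback.snd G.hom (t.app j))
  haveI : ∀ (j k : (Nhd.Idx s Va)ᵒᵖ) (f : j ⟶ k), IsAffineHom (D₂.map f) := fun j k f =>
    haveI := hAffD₂ j; haveI := hAffD₂ k; inferInstance
  haveI : ∀ j, CompactSpace (D₂.obj j) := fun j => haveI := hAffD₂ j; inferInstance
  haveI : ∀ j, QuasiSeparatedSpace (D₂.obj j) := fun j => haveI := hAffD₂ j; inferInstance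
  -- the ideal of the subgroup descends to a stage
  haveI : LocallyOfFiniteType (pullback.snd G.hom η₀) := MorphismProperty.pullback_snd _ _ inferInstance
  haveI : IsNoetherianRing X.functionField := inferInstance
  haveI : IsLocallyNoetherian (Spec X.functionField) := isLocallyNoetherian_Spec.2 inferInstance
  haveI : IsLocallyNoetherian (pullback G.hom η₀) := LocallyOfFiniteType.isLocallyNoetherian (pullback.snd G.hom η₀)
  let iL : Hη.left ⟶ pullback G.hom η₀ := i.left
  haveI : IsClosedImmersion iL := ‹IsClosedImmersion i.left›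
  have hJ : ∀ W : c₂.pt.affineOpens, (iL.ker.ideal W).FG := fun W => by
    haveI : IsLocallyNoetherian c₂.pt := ‹IsLocallyNoetherian (pullback G.hom η₀)›
    haveI : IsNoetherianRing Γ(c₂.pt, W.1) := IsLocallyNoetherian.component_noetherian W
    exact (isNoetherianRing_iff_ideal_fg Γ(c₂.pt, W.1)).1 inferInstance _
  obtain ⟨h, Jh, hJh, hcomap⟩ := Groth.Agent.S9220.result D₂ c₂ hc₂ iL.ker hJ
  let G₀ : Over (D.obj h) := Red.bc (t.app h) G
  let H₀ : Over (D.obj h) := Over.mk (Jh.subschemeι ≫ G₀.hom)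
  let ι₀ : H₀ ⟶ G₀ := Over.homMk Jh.subschemeι rfl
  haveI : IsClosedImmersion ι₀.left := inferInstanceAs (IsClosedImmersion Jh.subschemeι)
  haveI : LocallyOfFinitePresentation ι₀.left := LimH13.locallyOfFinitePresentation_subschemeι hJh
  haveI : IsAffineHom G₀.hom := MorphismProperty.pullback_snd (P := @IsAffineHom) G.hom (t.app h) inferInstance
  haveI : LocallyOfFinitePresentation G₀.hom :=
    MorphismProperty.pullback_snd (P := @LocallyOfFinitePresentation) G.hom (t.app h) inferInstance
  haveI : IsAffine (D.obj h) := hAffD h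
  let e := bcComp (t.app h) (cn.π.app h) (hq h) G
  haveI : IsMonHom e.hom := bcComp_isMonHom _ _ _ G
  let i' := (Over.pullback (cn.π.app h)).map ι₀
  haveI hi' : IsClosedImmersion i'.left := by
    have : IsPullback i'.left (pullback.fst H₀.hom (cn.π.app h)) (pullback.fst G₀.hom (cn.π.app h)) ι₀.left := by
      refine IsPullback.of_right ?_ (pullback.lift_fst _ _ _) (IsPullback.of_hasPullback G₀.hom (cn.π.app h)).flip
      show IsPullback (pullback.lift _ _ _ ≫ pullback.snd _ _) _ _ (ι₀.left ≫ G₀.hom)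
      rw [pullback.lift_snd, Over.w ι₀]
      exact (IsPullback.of_hasPullback H₀.hom (cn.π.app h)).flip
    exact MorphismProperty.of_isPullback (P := @IsClosedImmersion) this.flip inferInstance
  let m : (Red.bc (cn.π.app h) H₀).left ⟶ pullback G.hom η₀ := i'.left ≫ e.hom.left
  haveI : IsClosedImmersion m := inferInstance
  have hsq : IsPullback m (pullback.fst H₀.hom (cn.π.app h)) (c₂.π.app h) Jh.subschemeι := by
    have h0 : IsPullback i'.left (pullback.fst H₀.hom (cn.π.app h)) (pullback.fst G₀.hom (cn.π.app h)) ι₀.left := by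
      refine IsPullback.of_right ?_ (pullback.lift_fst _ _ _) (IsPullback.of_hasPullback G₀.hom (cn.π.app h)).flip
      show IsPullback (pullback.lift _ _ _ ≫ pullback.snd _ _) _ _ (ι₀.left ≫ G₀.hom)
      rw [pullback.lift_snd, Over.w ι₀]
      exact (IsPullback.of_hasPullback H₀.hom (cn.π.app h)).flip
    refine IsPullback.of_iso h0 (Iso.refl _) ((Over.forget _).mapIso e) (Iso.refl _) (Iso.refl _) ?_ ?_ ?_ ?_
    · exact (Category.id_comp _).symm
    · simp
    · show pullback.fst G₀.hom (cn.π.app h) ≫ 𝟙 _ = e.hom.left ≫ c₂.π.app h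
      rw [Category.comp_id]
      refine pullback.hom_ext ?_ ?_
      · rw [Category.assoc, Descend.pbCone_fst, bcComp_fst]
      · rw [Category.assoc, Descend.pbCone_snd, ← Category.assoc]
        have hw : e.hom.left ≫ pullback.snd G.hom η₀ = pullback.snd G₀.hom (cn.π.app h) := Over.w e.hom
        exact pullback.condition.trans (congrArg (· ≫ cn.π.app h) hw.symm)
    · simp [ι₀]
  have hker : m.ker = iL.ker := by
    rw [← LimH13.ker_eq_of_isPullback hsq, Scheme.IdealSheafData.ker_subschemeι]
    exact hcomap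
  let u : Hη.left ⟶ (Red.bc (cn.π.app h) H₀).left := IsClosedImmersion.lift m iL hker.le
  let v : (Red.bc (cn.π.app h) H₀).left ⟶ Hη.left := IsClosedImmersion.lift iL m hker.ge
  have hu : u ≫ m = iL := IsClosedImmersion.lift_fac _ _ _
  have hv : v ≫ iL = m := IsClosedImmersion.lift_fac _ _ _
  have hm : (i' ≫ e.hom).left = m := rfl
  let uO : Hη ⟶ Red.bc (cn.π.app h) H₀ := Over.homMk u (by
    rw [← Over.w (i' ≫ e.hom), hm, reassoc_of% hu]
    exact Over.w i)
  let vO : Red.bc (cn.π.app h) H₀ ⟶ Hη := Over.homMk v (by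
    rw [← Over.w i, show i.left = iL from rfl, reassoc_of% hv]
    exact Over.w (i' ≫ e.hom))
  have huO : uO ≫ i' = i ≫ e.inv := by
    rw [Iso.eq_comp_inv, Category.assoc]
    exact Over.OverMorphism.ext hu
  haveI : IsClosedImmersion (Jh.subschemeι) := inferInstance
  haveI : Mono i' := (Over.forget _).mono_of_mono_map (inferInstanceAs (Mono i'.left))
  have hvO : vO ≫ i = i' ≫ e.hom := Over.OverMorphism.ext hv
  have hvO' : (vO ≫ i) ≫ e.inv = i' := by rw [hvO, Category.assoc, Iso.hom_inv_id, Category.comp_id]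
  have hH : ∃ _ : GrpObj (Red.bc (cn.π.app h) H₀), IsMonHom i' := by
    let lm := (vO ⊗ₘ vO) ≫ μ[Hη] ≫ uO
    let le := η[Hη] ≫ uO
    let ln := vO ≫ (𝟙 Hη)⁻¹ ≫ uO
    have hei : ∀ (R : Over (Spec X.functionField)) (x : R ⟶ Hη), x ≫ uO ≫ i' = (x ≫ i) ≫ e.inv := fun R x => by
      rw [huO, Category.assoc]
    have hm' : lm ≫ i' = (fst _ _ ≫ i') * (snd _ _ ≫ i') := by
      have e1 : lm = ((fst (Red.bc (cn.π.app h) H₀) (Red.bc (cn.π.app h) H₀) ≫ vO) *
          (snd (Red.bc (cn.π.app h) H₀) (Red.bc (cn.π.app h) H₀) ≫ vO)) ≫ uO := by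
        simp only [lm, ← Category.assoc]
        rw [Hom.mul_def, ← lift_map, lift_fst_snd, Category.id_comp]
      rw [e1, Category.assoc, hei, MonObj.mul_comp, MonObj.mul_comp]
      simp only [Category.assoc]
      rw [← Category.assoc vO, hvO']
    have he' : le ≫ i' = 1 := by
      rw [Category.assoc, hei, IsMonHom.one_hom, IsMonHom.one_hom, Hom.one_def, toUnit_unique (toUnit _) (𝟙 _),
        Category.id_comp]
    have hn' : ln ≫ i' = i'⁻¹ := by
      rw [Category.assoc, Category.assoc, hei, GrpObj.inv_comp, Category.id_comp, GrpObj.inv_comp, GrpObj.comp_inv,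
        ← Category.assoc, hvO']
    exact ⟨SubGrp13.grpObjOfMono i' hm' he' hn', SubGrp13.isMonHom_grpObjOfMono i' hm' he' hn'⟩
  obtain ⟨⟨k, f, gr, hk⟩, -⟩ := Groth.Agent.S18878.result D cn hcn h G₀ H₀ ι₀ hH
  have hι : D.map f ≫ t.app h = t.app k := by simpa using t.naturality f
  let ek := bcComp (t.app h) (D.map f) hι G
  haveI : IsMonHom ek.hom := bcComp_isMonHom _ _ _ G
  haveI := hk
  let j : Red.bc (D.map f) H₀ ⟶ Red.bc (t.app k) G := (Over.pullback (D.map f)).map ι₀ ≫ ek.hom
  haveI : IsClosedImmersion ((Over.pullback (D.map f)).map ι₀).left := by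
    have : IsPullback ((Over.pullback (D.map f)).map ι₀).left (pullback.fst H₀.hom (D.map f))
        (pullback.fst G₀.hom (D.map f)) ι₀.left := by
      refine IsPullback.of_right ?_ (pullback.lift_fst _ _ _) (IsPullback.of_hasPullback G₀.hom (D.map f)).flip
      show IsPullback (pullback.lift _ _ _ ≫ pullback.snd _ _) _ _ (ι₀.left ≫ G₀.hom)
      rw [pullback.lift_snd, Over.w ι₀]
      exact (IsPullback.of_hasPullback H₀.hom (D.map f)).flip
    exact MorphismProperty.of_isPullback (P := @IsClosedImmersion) this.flip inferInstance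
  let ψ : (Red.bc (cn.π.app h) H₀).left ⟶ (Red.bc (D.map f) H₀).left :=
    pullback.lift (pullback.fst H₀.hom (cn.π.app h)) (pullback.snd H₀.hom (cn.π.app h) ≫ cn.π.app k) (by
      rw [Category.assoc, cn.w, pullback.condition])
  have hψ : IsPullback ψ (pullback.snd H₀.hom (cn.π.app h)) (pullback.snd H₀.hom (D.map f)) (cn.π.app k) := by
    refine IsPullback.of_right ?_ (pullback.lift_snd _ _ _) (IsPullback.of_hasPullback H₀.hom (D.map f))
    rw [pullback.lift_fst, cn.w]
    exact IsPullback.of_hasPullback H₀.hom (cn.π.app h)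
  haveI : IsIso u := ⟨v, by rw [← cancel_mono iL, Category.assoc, hv, hu, Category.id_comp],
    by rw [← cancel_mono m, Category.assoc, hu, hv, Category.id_comp]⟩
  refine ⟨X.basicOpen k.unop.1, cn.π.app k, Red.bc (D.map f) H₀, gr, j, u ≫ ψ, hq k, inferInstance, ?_, ?_, ?_⟩
  · show IsClosedImmersion (_ ≫ ek.hom.left)
    infer_instance
  · exact IsPullback.of_iso hψ (asIso u).symm (Iso.refl _) (Iso.refl _) (Iso.refl _) (by simp)
      (by
        simp only [Iso.symm_hom, asIso_inv, Iso.refl_hom, Category.comp_id]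
        rw [IsIso.eq_inv_comp]
        exact Over.w uO) (by simp) (by simp)
  · have e1 : ((Over.pullback (D.map f)).map ι₀).left ≫ pullback.fst G₀.hom (D.map f) =
        pullback.fst H₀.hom (D.map f) ≫ ι₀.left := pullback.lift_fst _ _ _
    have e2 : i'.left ≫ pullback.fst G₀.hom (cn.π.app h) = pullback.fst H₀.hom (cn.π.app h) ≫ ι₀.left :=
      pullback.lift_fst _ _ _
    show (u ≫ ψ) ≫ (((Over.pullback (D.map f)).map ι₀).left ≫ ek.hom.left) ≫ pullback.fst G.hom (t.app k) =
      iL ≫ pullback.fst G.hom η₀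
    rw [← hu]
    simp only [m, Category.assoc]
    rw [bcComp_fst, bcComp_fst, reassoc_of% e1, reassoc_of% e2]
    congr 1
    rw [pullback.lift_fst_assoc]

end Groth.Agent.SpreadSub19

end
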